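import Groth.Agent.GaGm.Basic
import Mathlib.RingTheory.PowerSeries.Substitution

/-!
# Characters of the additive group: coefficient criteria
-/

set_option autoImplicit false
universe u

open Polynomial Groth.Agent.GaGm

namespace Groth.Agent.GaDualLib

theorem lucas_block {p : ℕ} [Fact p.Prime] (n a b r s : ℕ) (hr : r < p ^ n) (hs : s < p ^ n) :
    (r + p ^ n * a).choose (s + p ^ n * b) ≡ r.choose s * a.choose b [MOD p] := by
  induction n generalizing r s with
  | zero =>
    obtain rfl : r = 0 := by simpa using hr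
    obtain rfl : s = 0 := by simpa using hs
    simp [Nat.ModEq]
  | succ n ih =>
    have hp : 0 < p := (Fact.out : p.Prime).pos
    have h1 : ∀ r a, (r + p ^ (n + 1) * a) % p = r % p := fun r a => by
      rw [pow_succ', mul_assoc, Nat.add_mul_mod_self_left]
    have h2 : ∀ r a, (r + p ^ (n + 1) * a) / p = r / p + p ^ n * a := fun r a => by
      rw [pow_succ', mul_assoc, Nat.add_mul_div_left _ _ hp]
    have hd : ∀ r, r < p ^ (n + 1) → r / p < p ^ n := fun r hr =>
      Nat.div_lt_of_lt_mul (by rwa [← pow_succ'])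
    refine Choose.choose_modEq_choose_mod_mul_choose_div_nat.trans ?_
    rw [h1, h1, h2, h2]
    refine ((ih _ _ (hd r hr) (hd s hs)).mul_left _).trans ?_
    rw [← mul_assoc]
    exact Choose.choose_modEq_choose_mod_mul_choose_div_nat.symm.mul_right _

theorem lucas_cast {p : ℕ} [Fact p.Prime] {A : Type u} [CommRing A] [CharP A p]
    (n a b r s : ℕ) (hr : r < p ^ n) (hs : s < p ^ n) :
    (((r + p ^ n * a).choose (s + p ^ n * b) : ℕ) : A) = ((r.choose s : ℕ) : A) * ((a.choose b : ℕ) : A) := by
  rw [← Nat.cast_mul]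
  exact (CharP.natCast_eq_natCast A p).2 (lucas_block n a b r s hr hs)

/-- The truncated exponential of `a * X ^ q`. -/
noncomputable def E {A : Type u} [CommRing A] (p q : ℕ) (a : A) : Polynomial A :=
  ∑ j ∈ Finset.range p, C (Ring.inverse (j.factorial : A) * a ^ j) * X ^ (j * q)

theorem coeff_E {A : Type u} [CommRing A] (p q : ℕ) (hq : 0 < q) (a : A) (n : ℕ) :
    (E p q a).coeff n = if q ∣ n ∧ n / q < p then Ring.inverse ((n / q).factorial : A) * a ^ (n / q) else 0 := by
  rw [E, finsetSum_coeff]
  simp only [coeff_C_mul_X_pow]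
  split_ifs with h
  · obtain ⟨⟨j, rfl⟩, hj⟩ := h
    rw [Nat.mul_div_cancel_left _ hq] at hj ⊢
    rw [Finset.sum_eq_single j]
    · rw [if_pos (mul_comm q j)]
    · intro k _ hk
      rw [if_neg fun e => hk (Nat.eq_of_mul_eq_mul_right hq (by rw [← e, mul_comm]))]
    · exact fun h => absurd (Finset.mem_range.2 hj) h
  · refine Finset.sum_eq_zero fun k hk => if_neg fun e => h ?_
    subst e
    exact ⟨dvd_mul_left q k, by rw [Nat.mul_div_cancel _ hq]; exact Finset.mem_range.1 hk⟩


/-- `c` satisfies the multiplicativity relations below `N`. -/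
def MulSeq {A : Type u} [CommRing A] (N : ℕ) (c : ℕ → A) : Prop :=
  ∀ i j, i < N → j < N → ((i + j).choose i : A) * c (i + j) = c i * c j

theorem poly_mul_iff {A : Type u} [CommRing A] (g : Polynomial A) :
      (Polynomial.aeval (MvPolynomial.X 0 + MvPolynomial.X 1 : MvPolynomial (Fin 2) A) g =
        Polynomial.aeval (MvPolynomial.X 0 : MvPolynomial (Fin 2) A) g *
          Polynomial.aeval (MvPolynomial.X 1 : MvPolynomial (Fin 2) A) g) ↔
      ∀ i j, ((i + j).choose i : A) * g.coeff (i + j) = g.coeff i * g.coeff j := by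
  constructor
  · intro h i j
    rw [← coeff_aeval_add, ← coeff_aeval_mul, h]
  · intro h
    refine MvPolynomial.ext _ _ fun m => ?_
    rw [← ix_eq m, coeff_aeval_add, coeff_aeval_mul, h]

theorem series_mul_iff {A : Type u} [CommRing A] (χ : PowerSeries A) :
    (PowerSeries.subst (MvPowerSeries.X 0 + MvPowerSeries.X 1 : MvPowerSeries (Fin 2) A) χ =
        PowerSeries.subst (MvPowerSeries.X 0 : MvPowerSeries (Fin 2) A) χ *
          PowerSeries.subst (MvPowerSeries.X 1 : MvPowerSeries (Fin 2) A) χ) ↔
      ∀ i j, ((i + j).choose i : A) * PowerSeries.coeff (i + j) χ =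
        PowerSeries.coeff i χ * PowerSeries.coeff j χ := by
  classical
  have hadd : ∀ i j, MvPowerSeries.coeff (ix i j)
      (PowerSeries.subst (MvPowerSeries.X 0 + MvPowerSeries.X 1 : MvPowerSeries (Fin 2) A) χ) =
      ((i + j).choose i : A) * PowerSeries.coeff (i + j) χ := by
    intro i j
    have e : ∀ d, MvPowerSeries.coeff (ix i j) ((MvPowerSeries.X 0 + MvPowerSeries.X 1 : MvPowerSeries (Fin 2) A) ^ d) =
        if i + j = d then ((i + j).choose i : A) else 0 := by
      intro d
      rw [← MvPolynomial.coe_X, ← MvPolynomial.coe_X, ← MvPolynomial.coe_add, ← MvPolynomial.coe_pow,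
        MvPolynomial.coeff_coe]
      have h := coeff_aeval_add (Polynomial.X ^ d : Polynomial A) i j
      rw [map_pow, Polynomial.aeval_X, Polynomial.coeff_X_pow] at h
      rw [h]
      split_ifs <;> simp
    rw [PowerSeries.coeff_subst (PowerSeries.HasSubst.of_constantCoeff_zero (by simp)),
      finsum_eq_single _ (i + j) (fun d hd => by rw [e, if_neg (Ne.symm hd), smul_zero])]
    rw [e, if_pos rfl, smul_eq_mul, mul_comm]
  have hX : ∀ (s t : Fin 2), s ≠ t → ∀ (m : Fin 2 →₀ ℕ), MvPowerSeries.coeff m
      (PowerSeries.subst (MvPowerSeries.X s : MvPowerSeries (Fin 2) A) χ) =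
      if m t = 0 then PowerSeries.coeff (m s) χ else 0 := by
    intro s t hst m
    have hm : ∀ d, m = Finsupp.single s d ↔ m t = 0 ∧ m s = d := by
      intro d
      constructor
      · rintro rfl
        simp [hst.symm]
      · rintro ⟨h1, h2⟩
        ext a
        by_cases ha : a = s
        · subst ha; simp [h2]
        · have : a = t := by fin_cases a <;> fin_cases s <;> fin_cases t <;> simp_all
          subst this
          simp [h1, hst.symm]
    rw [PowerSeries.coeff_subst (PowerSeries.HasSubst.of_constantCoeff_zero (by simp))]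
    simp only [MvPowerSeries.coeff_X_pow, hm]
    by_cases h : m t = 0
    · rw [finsum_eq_single _ (m s) (fun d hd => by simp [Ne.symm hd])]
      simp [h]
    · simp [h]
  have hmul : ∀ i j, MvPowerSeries.coeff (ix i j)
      (PowerSeries.subst (MvPowerSeries.X 0 : MvPowerSeries (Fin 2) A) χ *
          PowerSeries.subst (MvPowerSeries.X 1 : MvPowerSeries (Fin 2) A) χ) =
      PowerSeries.coeff i χ * PowerSeries.coeff j χ := by
    intro i j
    rw [MvPowerSeries.coeff_mul, Finset.sum_eq_single (ix i 0, ix 0 j)]
    · simp [hX 0 1 (by decide), hX 1 0 (by decide)]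
    · intro x hx hne
      rw [hX 0 1 (by decide), hX 1 0 (by decide)]
      by_cases h1 : x.1 1 = 0
      · by_cases h2 : x.2 0 = 0
        · exfalso
          rw [Finset.HasAntidiagonal.mem_antidiagonal] at hx
          have e0 := congrArg (· 0) hx
          have e1 := congrArg (· 1) hx
          simp only [Finsupp.add_apply, ix_zero, ix_one] at e0 e1
          rw [h2, add_zero] at e0
          rw [h1, zero_add] at e1
          exact hne (Prod.ext (by rw [← ix_eq x.1, e0, h1]) (by rw [← ix_eq x.2, e1, h2]))
        · simp [h2]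
      · simp [h1]
    · intro h
      exact absurd (by simp [Finset.HasAntidiagonal.mem_antidiagonal, ix]) h
  constructor
  · intro h i j
    rw [← hadd, ← hmul, h]
  · intro h
    refine MvPowerSeries.ext fun m => ?_
    rw [← ix_eq m, hadd, hmul, h]

section CharP

variable {p : ℕ} [Fact p.Prime] {A : Type u} [CommRing A] [CharP A p]

theorem prod_E_eq (c : ℕ → A) (n : ℕ) (h0 : c 0 = 1) (hmul : MulSeq (p ^ n) c) :
    (∀ i, i < n → c (p ^ i) ^ p = 0) ∧
    (∏ i ∈ Finset.range n, E p (p ^ i) (c (p ^ i))) = ∑ m ∈ Finset.range (p ^ n), C (c m) * X ^ m := by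
  classical
  have hp : p.Prime := Fact.out
  have hfac : ∀ j, j < p → IsUnit ((j.factorial : A)) := fun j hj => by
    refine (CharP.isUnit_natCast_iff (R := A) hp).2 fun h => ?_
    exact absurd (hp.dvd_factorial.1 h) (not_le.2 hj)
  have hpow : ∀ i, i < n → p * p ^ i ≤ p ^ n := fun i hi => by
    rw [← pow_succ']; exact Nat.pow_le_pow_right hp.pos hi
  have hlt : ∀ i, i < n → p ^ i < p ^ n := fun i hi => Nat.pow_lt_pow_right hp.one_lt hi
  have hmlt : ∀ i j, i < n → j < p → j * p ^ i < p ^ n := fun i j hi hj =>
    lt_of_lt_of_le (Nat.mul_lt_mul_of_pos_right hj (Nat.pow_pos hp.pos)) (hpow i hi)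
  let a : ℕ → A := fun i => c (p ^ i)
  have hc : ∀ i, i < n → ∀ j, j < p → (j.factorial : A) * c (j * p ^ i) = a i ^ j := by
    intro i hi j
    induction j with
    | zero => intro _; simp [h0]
    | succ j ih =>
      intro hj
      have h := hmul (j * p ^ i) (p ^ i) (hmlt i j hi (by omega)) (hlt i hi)
      rw [← add_one_mul] at h
      have e : (((j + 1) * p ^ i).choose (j * p ^ i) : A) = ((j + 1 : ℕ) : A) := by
        have := lucas_cast (p := p) (A := A) i (j + 1) j 0 0 (Nat.pow_pos hp.pos) (Nat.pow_pos hp.pos)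
        rw [zero_add, zero_add, Nat.choose_self, Nat.cast_one, one_mul, mul_comm _ (j + 1),
          mul_comm _ j] at this
        rw [this, Nat.choose_succ_self_right]
      rw [e] at h
      rw [Nat.factorial_succ, Nat.cast_mul, mul_assoc, mul_left_comm, h, ← mul_assoc,
        ih (by omega), pow_succ]
  have hap : ∀ i, i < n → a i ^ p = 0 := by
    intro i hi
    have h := hmul ((p - 1) * p ^ i) (p ^ i) (hmlt i _ hi (by have := hp.pos; omega)) (hlt i hi)
    rw [← add_one_mul, Nat.sub_add_cancel hp.one_le] at h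
    have e : ((p * p ^ i).choose ((p - 1) * p ^ i) : A) = 0 := by
      have := lucas_cast (p := p) (A := A) i p (p - 1) 0 0 (Nat.pow_pos hp.pos) (Nat.pow_pos hp.pos)
      rw [zero_add, zero_add, Nat.choose_self, Nat.cast_one, one_mul, mul_comm _ p,
        mul_comm _ (p - 1)] at this
      rw [this, Nat.choose_symm hp.one_le, Nat.choose_one_right, CharP.cast_eq_zero]
    rw [e, zero_mul] at h
    rw [← Nat.sub_add_cancel hp.one_le, pow_succ, ← hc i hi (p - 1) (by have := hp.pos; omega),
      mul_assoc, ← h, mul_zero]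
  refine ⟨hap, ?_⟩
  suffices hprod : ∀ N, N ≤ n → (∏ i ∈ Finset.range N, E p (p ^ i) (c (p ^ i))) =
      ∑ m ∈ Finset.range (p ^ N), C (c m) * X ^ m from hprod n le_rfl
  intro N hN
  induction N with
  | zero => simp [h0]
  | succ N ih =>
    rw [Finset.prod_range_succ, ih (by omega), E, Finset.mul_sum, pow_succ']
    have : ∀ j, j ≤ p → ∑ i ∈ Finset.range j, (∑ m ∈ Finset.range (p ^ N), C (c m) * X ^ m) *
        (C (Ring.inverse (i.factorial : A) * c (p ^ N) ^ i) * X ^ (i * p ^ N)) =
        ∑ m ∈ Finset.range (j * p ^ N), C (c m) * X ^ m := by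
      intro j hj
      induction j with
      | zero => simp
      | succ j ihj =>
        rw [Finset.sum_range_succ, ihj (by omega), add_one_mul j, Finset.sum_range_add,
          Finset.sum_mul]
        congr 1
        refine Finset.sum_congr rfl fun m hm => ?_
        have hm' := Finset.mem_range.1 hm
        have key : c (j * p ^ N + m) = c m * (Ring.inverse (j.factorial : A) * c (p ^ N) ^ j) := by
          have h := hmul m (j * p ^ N) (hm'.trans (hlt N (by omega))) (hmlt N j (by omega) (by omega))
          have e := lucas_cast (p := p) (A := A) N j 0 m m hm' hm'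
          rw [Nat.choose_self, Nat.choose_zero_right, Nat.cast_one, mul_one, mul_zero, add_zero,
            mul_comm (p ^ N) j] at e
          rw [e, one_mul] at h
          rw [add_comm, h, show c (p ^ N) = a N from rfl, ← hc N (by omega) j (by omega), ← mul_assoc _ (j.factorial : A),
            Ring.inverse_mul_cancel _ (hfac j (by omega)), one_mul]
        rw [key, pow_add]
        simp only [map_mul]
        ring
    exact this p le_rfl

theorem prod_E_mul (a : ℕ → A) (ha : ∀ i, a i ^ p = 0) (N : ℕ) :
    (∏ i ∈ Finset.range N, E p (p ^ i) (a i)).eval 0 = 1 ∧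
    ∀ i j, ((i + j).choose i : A) * (∏ i ∈ Finset.range N, E p (p ^ i) (a i)).coeff (i + j) =
      (∏ i ∈ Finset.range N, E p (p ^ i) (a i)).coeff i * (∏ i ∈ Finset.range N, E p (p ^ i) (a i)).coeff j := by
  classical
  have hp : p.Prime := Fact.out
  have hfac : ∀ j, j < p → IsUnit ((j.factorial : A)) := fun j hj => by
    refine (CharP.isUnit_natCast_iff (R := A) hp).2 fun h => ?_
    exact absurd (hp.dvd_factorial.1 h) (not_le.2 hj)
  have hE : ∀ n, Polynomial.aeval (MvPolynomial.X 0 + MvPolynomial.X 1 : MvPolynomial (Fin 2) A) (E p (p ^ n) (a n)) =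
      Polynomial.aeval (MvPolynomial.X 0 : MvPolynomial (Fin 2) A) (E p (p ^ n) (a n)) *
        Polynomial.aeval (MvPolynomial.X 1 : MvPolynomial (Fin 2) A) (E p (p ^ n) (a n)) := by
    intro n
    rw [poly_mul_iff]
    intro i j
    have hq : 0 < p ^ n := Nat.pow_pos hp.pos
    simp only [coeff_E p _ hq]
    by_cases hi : p ^ n ∣ i
    · obtain ⟨α, rfl⟩ := hi
      rw [Nat.mul_div_cancel_left _ hq]
      by_cases hj : p ^ n ∣ j
      · obtain ⟨β, rfl⟩ := hj
        rw [← mul_add, Nat.mul_div_cancel_left _ hq, Nat.mul_div_cancel_left _ hq]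
        simp only [dvd_mul_right, true_and]
        by_cases hab : α + β < p
        · rw [if_pos hab, if_pos (by omega), if_pos (by omega)]
          have e := lucas_cast (p := p) (A := A) n (α + β) α 0 0 hq hq
          rw [zero_add, zero_add, Nat.choose_self, Nat.cast_one, one_mul] at e
          have hfac' : ((α + β).choose α : A) * (α.factorial : A) * (β.factorial : A) = ((α + β).factorial : A) := by
            rw [← Nat.cast_mul, ← Nat.cast_mul, Nat.choose_symm_add, Nat.add_choose_mul_factorial_mul_factorial]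
          rw [e, pow_add]
          have u1 := Ring.inverse_mul_cancel _ (hfac α (by omega))
          have u2 := Ring.inverse_mul_cancel _ (hfac β (by omega))
          have u3 := Ring.mul_inverse_cancel _ (hfac _ hab)
          generalize Ring.inverse (α.factorial : A) = x at *
          generalize Ring.inverse (β.factorial : A) = y at *
          generalize Ring.inverse ((α + β).factorial : A) = z at *
          linear_combination (-(((α + β).choose α : A) * z * (a n ^ α * a n ^ β))) * (x * (α.factorial : A) * u2 + u1) +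
            (a n ^ α * a n ^ β * z * x * y) * hfac' + (a n ^ α * a n ^ β * x * y) * u3
        · rw [if_neg hab, mul_zero]
          split_ifs
          · rw [mul_mul_mul_comm, ← pow_add, pow_eq_zero_of_le (le_of_not_gt hab) (ha n), mul_zero]
          all_goals simp
      · rw [if_neg (fun h => hj ((Nat.dvd_add_right (dvd_mul_right _ _)).1 h.1)), mul_zero,
          if_neg (c := p ^ n ∣ j ∧ _) (fun h => hj h.1), mul_zero]
    · rw [if_neg (c := p ^ n ∣ i ∧ _) (fun h => hi h.1), zero_mul]
      split_ifs with h
      · obtain ⟨⟨γ, hγ⟩, -⟩ := h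
        have e := lucas_cast (p := p) (A := A) n γ (i / p ^ n) 0 (i % p ^ n) hq (Nat.mod_lt _ hq)
        rw [zero_add, Nat.mod_add_div, ← hγ, Nat.choose_eq_zero_of_lt (Nat.pos_of_ne_zero fun h0 => hi (Nat.dvd_of_mod_eq_zero h0)),
          Nat.cast_zero, zero_mul] at e
        rw [e, zero_mul]
      · rw [mul_zero]
  refine ⟨?_, ?_⟩
  · rw [eval_prod]
    refine Finset.prod_eq_one fun n _ => ?_
    rw [← coeff_zero_eq_eval_zero, coeff_E p _ (Nat.pow_pos hp.pos)]
    simp [hp.pos]
  · rw [← poly_mul_iff]
    simp only [map_prod, hE, Finset.prod_mul_distrib]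

end CharP

end Groth.Agent.GaDualLib
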